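import Mathlib
import Groth.Agent.GrpScheme.OrbitDim
import Groth.Agent.GrpScheme.Dimension

/-!
`dim G = dim (orbit) + dim (stabiliser)` for a quasi-compact orbit map of a group locally of finite type.
-/

set_option autoImplicit false

universe u

open CategoryTheory MonoidalCategory CartesianMonoidalCategory MonObj GrpObj AlgebraicGeometry Limits
  TopologicalSpace Groth.Agent Groth.Agent.GrpScheme Groth.Agent.GrpScheme.OrbitDim

namespace Groth.Agent.HomDim

/-- A group locally of finite type over a field has finite dimension. -/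
theorem exists_dim_bound {k : Type u} [Field k] (G : Over (Spec (CommRingCat.of k))) [GrpObj G]
    [LocallyOfFiniteType G.hom] : ∃ N : ℕ, topologicalKrullDim G.left ≤ N := by
  have := LocallyOfFiniteType.isLocallyNoetherian G.hom
  have := LocallyOfFiniteType.jacobsonSpace G.hom
  obtain ⟨x, -, hx⟩ := nonempty_inter_closedPoints (Z := (Set.univ : Set G.left))
    ⟨η[G].left (IsLocalRing.closedPoint k), trivial⟩ isClosed_univ.isLocallyClosed
  rw [← Dimension.coheight_eq_topologicalKrullDim G x hx, ← AlgebraicGeometry.ringKrullDim_stalk_eq_coheight]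
  rw [← IsLocalRing.maximalIdeal_height_eq_ringKrullDim]
  obtain ⟨n, hn⟩ := ENat.ne_top_iff_exists.mp
    (Ideal.height_ne_top (IsLocalRing.maximalIdeal.isMaximal (G.left.presheaf.stalk x)).ne_top)
  exact ⟨n, by rw [← hn]; rfl⟩

variable {k : Type u} [Field k] {G X : Over (Spec (CommRingCat.of k))} [GrpObj G]
  (a : AlgGrp.Action G X) (o : 𝟙_ (Over (Spec (CommRingCat.of k))) ⟶ X)
  [LocallyOfFiniteType G.hom] [LocallyOfFiniteType X.hom] [QuasiCompact (a.orbitMap o).left]

/-- The orbit has bounded dimension. -/
theorem exists_bound : ∃ N, ∀ x ∈ Set.range (a.orbitMap o).left, @VarDim.dimPt k _ X.left ⟨X.hom⟩ x ≤ N := by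
  let : G.left.Over (Spec (CommRingCat.of k)) := ⟨G.hom⟩
  have : LocallyOfFiniteType (G.left ↘ Spec (CommRingCat.of k)) := ‹LocallyOfFiniteType G.hom›
  obtain ⟨N, hN⟩ := exists_dim_bound G
  rw [VarDim.topologicalKrullDim_eq_iSup k] at hN
  refine ⟨N, ?_⟩
  rintro _ ⟨g, rfl⟩
  refine (dimPt_map_le (a.orbitMap o) g).trans ?_
  have h := (le_iSup (fun g : G.left => (VarDim.dimPt k G.left g : WithBot ℕ∞)) g).trans hN
  exact_mod_cast h

lemma topDim_eq_fiber' (f : G ⟶ X) (w : X.left) :
    topologicalKrullDim (f.left.fiber w) = Order.krullDim {z : G.left | f.left z = w} := by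
  rw [show topologicalKrullDim (f.left.fiber w) = topologicalKrullDim (f.left ⁻¹' {w} : Set G.left) from
    IsHomeomorph.topologicalKrullDim_eq (f.left.fiberHomeo w) (f.left.fiberHomeo w).isHomeomorph]
  have hc : QuasiSober ↥(f.left ⁻¹' {w}) :=
    (f.left.fiberHomeo w).symm.isOpenEmbedding.quasiSober
  refine (DimLift.topDim_eq_krullDim_points (X := ↥(f.left ⁻¹' {w}))).trans ?_
  congr 1
  exact Preorder.ext fun a b => subtype_specializes_iff b a

/-- The fibres of an orbit map have the dimension of the stabiliser. -/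
theorem topDim_fiber (g₀ : G.left) :
    topologicalKrullDim ((a.orbitMap o).left.fiber ((a.orbitMap o).left g₀)) =
      topologicalKrullDim ↥(pullback (a.orbitMap o).left o.left) := by
  let f := a.orbitMap o
  let H : Over (Spec (CommRingCat.of k)) := Over.mk (pullback.fst f.left o.left ≫ G.hom)
  let iH : H ⟶ G := Over.homMk (pullback.fst f.left o.left) rfl
  have hiH : iH ≫ f = toUnit H ≫ o := by
    apply Over.OverMorphism.ext
    show pullback.fst f.left o.left ≫ f.left = (toUnit H).left ≫ o.left
    rw [pullback.condition]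
    congr 1
    show pullback.snd f.left o.left = pullback.fst f.left o.left ≫ G.hom
    rw [← Over.w f, ← Category.assoc, pullback.condition, Category.assoc, Over.w o]
    exact (Category.comp_id _).symm
  let T := Points.pointObj G g₀
  let g : T ⟶ G := Points.pointHom G g₀
  have hy : ∀ {Z : Over (Spec (CommRingCat.of k))} (t : Z ⟶ T) (v : Z ⟶ G),
      v ≫ f = t ≫ g ≫ f → ((t ≫ g)⁻¹ * v) ≫ f = toUnit Z ≫ o := by
    intro Z t v e
    rw [S7984.orbit_apply, Basic.mul_smul', ← S7984.orbit_apply a o v, e, ← Category.assoc,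
      S7984.orbit_apply, Basic.inv_smul_smul']
  have hlift : ∀ {Z : Over (Spec (CommRingCat.of k))} (v : Z ⟶ G), v ≫ f = toUnit Z ≫ o →
      ∃ h : Z ⟶ H, h ≫ iH = v := by
    intro Z v e
    exact ⟨Over.homMk (pullback.lift v.left (toUnit Z).left (congrArg CommaMorphism.left e))
      (by show _ ≫ pullback.fst _ _ ≫ G.hom = _; rw [pullback.lift_fst_assoc, Over.w v]),
      Over.OverMorphism.ext (pullback.lift_fst _ _ _)⟩
  have hmono : ∀ {Z : Over (Spec (CommRingCat.of k))} (h₁ h₂ : Z ⟶ H), h₁ ≫ iH = h₂ ≫ iH → h₁ = h₂ := by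
    intro Z h₁ h₂ e
    apply Over.OverMorphism.ext
    apply pullback.hom_ext
    · exact congrArg CommaMorphism.left e
    · have : ∀ h : Z ⟶ H, h.left ≫ pullback.snd f.left o.left = Z.hom := fun h => by
        have hw := Over.w h
        rw [show H.hom = pullback.snd f.left o.left ≫ 𝟙 _ from ?_, Category.comp_id] at hw
        · exact hw
        · show pullback.fst f.left o.left ≫ G.hom = _
          rw [← Over.w f, ← Category.assoc, pullback.condition, Category.assoc, Over.w o]
          rfl
      rw [this, this]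
  let m : T ⊗ H ⟶ G := (fst T H ≫ g) * (snd T H ≫ iH)
  have hm : m ≫ f = fst T H ≫ g ≫ f := by
    rw [S7984.orbit_apply, Basic.mul_smul', ← S7984.orbit_apply a o (snd T H ≫ iH), Category.assoc,
      hiH, comp_toUnit_assoc, ← S7984.orbit_apply, Category.assoc]
  choose l hl using fun s : PullbackCone f (g ≫ f) => hlift ((s.snd ≫ g)⁻¹ * s.fst) (hy _ _ s.condition)
  have hsq : IsPullback m (fst T H) f (g ≫ f) :=
    { w := hm
      isLimit' := ⟨PullbackCone.IsLimit.mk hm (fun s => lift s.snd (l s))
        (fun s => by simp [m, MonObj.comp_mul, hl])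
        (fun s => by simp)
        (fun s n h₁ h₂ => by
          refine CartesianMonoidalCategory.hom_ext _ _ (by rw [lift_fst]; exact h₂) ?_
          rw [lift_snd]
          refine hmono _ _ ?_
          rw [hl, ← h₁, ← h₂]
          simp [m, MonObj.comp_mul])⟩ }
  set w := f.left g₀ with hw
  have hgw : (g ≫ f).left = Spec.map (f.left.residueFieldMap g₀) ≫ X.left.fromSpecResidueField w :=
    (Scheme.Hom.SpecMap_residueFieldMap_fromSpecResidueField f.left g₀).symm
  have hfib : IsPullback (f.left.fiberι w) (f.left.fiberToSpecResidueField w) f.left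
      (X.left.fromSpecResidueField w) := IsPullback.of_hasPullback _ _
  have hsqL : IsPullback m.left (fst T H).left f.left
      (Spec.map (f.left.residueFieldMap g₀) ≫ X.left.fromSpecResidueField w) := by
    rw [← hgw]; exact hsq.map (Over.forget _)
  let e := hfib.lift m.left ((fst T H).left ≫ Spec.map (f.left.residueFieldMap g₀))
    (by rw [hsqL.w, Category.assoc])
  have h1 : IsPullback e (fst T H).left (f.left.fiberToSpecResidueField w)
      (Spec.map (f.left.residueFieldMap g₀)) :=
    IsPullback.of_right (by rw [hfib.lift_fst]; exact hsqL) (hfib.lift_snd _ _ _) hfib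
  have : LocallyOfFiniteType (f.left ≫ X.hom) := by rw [Over.w]; infer_instance
  have : LocallyOfFiniteType f.left := locallyOfFiniteType_of_comp f.left X.hom
  have : IsLocallyNoetherian G.left := LocallyOfFiniteType.isLocallyNoetherian G.hom
  have : LocallyOfFiniteType (f.left.fiberToSpecResidueField w) :=
    inferInstanceAs (LocallyOfFiniteType (pullback.snd f.left (X.left.fromSpecResidueField w)))
  have : QuasiCompact (f.left.fiberToSpecResidueField w) :=
    inferInstanceAs (QuasiCompact (pullback.snd f.left (X.left.fromSpecResidueField w)))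
  have hT : IsIntegral T.left ∧ Subsingleton T.left :=
    ⟨inferInstanceAs (IsIntegral (Spec (G.left.residueField g₀))),
      inferInstanceAs (Subsingleton (Spec (G.left.residueField g₀)))⟩
  have := hT.1
  have := hT.2
  have : Subsingleton (Spec (X.left.residueField w)) := inferInstance
  refine (ConsPairLib.topDim_baseChange _ h1).symm.trans ?_
  have h2 : IsPullback (snd T H).left (fst T H).left H.hom T.hom := (IsPullback.of_hasPullback _ _).flip
  have : LocallyOfFiniteType H.hom :=
    have : LocallyOfFiniteType (o.left ≫ X.hom) := by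
      rw [Over.w o]; exact inferInstanceAs (LocallyOfFiniteType (𝟙 _))
    have : LocallyOfFiniteType o.left := locallyOfFiniteType_of_comp o.left X.hom
    inferInstanceAs (LocallyOfFiniteType (pullback.fst f.left o.left ≫ G.hom))
  have : QuasiCompact H.hom := by
    show QuasiCompact (pullback.fst f.left o.left ≫ G.hom)
    rw [← Over.w f, ← Category.assoc, pullback.condition, Category.assoc, Over.w o]
    exact inferInstanceAs (QuasiCompact (pullback.snd f.left o.left ≫ 𝟙 _))
  have : IsIntegral (Spec (CommRingCat.of k)) := inferInstance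
  have : Subsingleton (Spec (CommRingCat.of k)) := inferInstanceAs (Subsingleton (PrimeSpectrum k))
  exact ConsPairLib.topDim_baseChange H.hom h2

/-- `dim G = dim (orbit) + dim (stabiliser)`. -/
theorem dim_eq_add (hO₀ : IsLocallyClosed (Set.range (a.orbitMap o).left)) : topologicalKrullDim G.left =
    topologicalKrullDim ↥(Set.range (a.orbitMap o).left) +
      topologicalKrullDim ↥(pullback (a.orbitMap o).left o.left) := by
  let : X.left.Over (Spec (CommRingCat.of k)) := ⟨X.hom⟩
  let : G.left.Over (Spec (CommRingCat.of k)) := ⟨G.hom⟩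
  have : LocallyOfFiniteType (X.left ↘ Spec (CommRingCat.of k)) := ‹LocallyOfFiniteType X.hom›
  have : LocallyOfFiniteType (G.left ↘ Spec (CommRingCat.of k)) := ‹LocallyOfFiniteType G.hom›
  let f := a.orbitMap o
  have : LocallyOfFiniteType (f.left ≫ X.hom) := by rw [Over.w]; infer_instance
  have : LocallyOfFiniteType f.left := locallyOfFiniteType_of_comp f.left X.hom
  have hO : IsLocallyClosed (Set.range f.left) := hO₀
  set dH := topologicalKrullDim ↥(pullback (a.orbitMap o).left o.left)
  have hF : ∀ g : G.left, Order.krullDim {z : G.left | f.left z = f.left g} = dH := fun g => by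
    rw [← topDim_eq_fiber', HomDim.topDim_fiber]
  -- the points of a fibre
  have hup : ∀ g : G.left, (VarDim.dimPt k G.left g : WithBot ℕ∞) ≤
      topologicalKrullDim ↥(Set.range f.left) + dH := by
    intro g
    obtain ⟨e, he, hdim⟩ := FibBound.dimPt_eq_add f.left k (Over.w f) g
    rw [hdim, Nat.cast_add]
    refine add_le_add (le_topDim k hO ⟨g, rfl⟩) ?_
    rw [← he, ← hF g]
    exact Order.krullDim_le_of_strictMono (fun z => ⟨z.1, z.2.1⟩) fun a b h => h
  have hub : topologicalKrullDim G.left ≤ topologicalKrullDim ↥(Set.range f.left) + dH := by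
    rw [VarDim.topologicalKrullDim_eq_iSup k]
    exact iSup_le hup
  refine le_antisymm hub ?_
  obtain ⟨N, hN⟩ := exists_bound a o
  have hne : (Set.range f.left).Nonempty := ⟨_, η[G].left (IsLocalRing.closedPoint k), rfl⟩
  obtain ⟨_, ⟨g₁, rfl⟩, hmax⟩ : ∃ x ∈ Set.range f.left, ∀ y ∈ Set.range f.left,
      VarDim.dimPt k X.left y ≤ VarDim.dimPt k X.left x := by
    classical
    obtain ⟨x, hx, hxmax⟩ := Nat.findGreatest_spec (P := fun n => ∃ x ∈ Set.range f.left,
      VarDim.dimPt k X.left x = n) (hN _ hne.some_mem) ⟨_, hne.some_mem, rfl⟩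
    refine ⟨x, hx, fun y hy => ?_⟩
    rw [hxmax]
    exact Nat.le_findGreatest (hN y hy) ⟨y, hy, rfl⟩
  have hdO : topologicalKrullDim ↥(Set.range f.left) = VarDim.dimPt k X.left (f.left g₁) :=
    le_antisymm (topDim_le k hO hmax) (le_topDim k hO ⟨g₁, rfl⟩)
  rw [hdO, ← hF g₁, Order.krullDim_eq_iSup_height,
    show topologicalKrullDim G.left = _ from VarDim.topologicalKrullDim_eq_iSup k]
  have : Nonempty {z : G.left | f.left z = f.left g₁} := ⟨⟨g₁, rfl⟩⟩
  rw [add_comm, ← WithBot.coe_iSup (OrderTop.bddAbove _), ← WithBot.coe_natCast,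
    ← WithBot.coe_add, ENat.iSup_add, WithBot.coe_iSup (OrderTop.bddAbove _)]
  refine iSup_le fun z => ?_
  refine le_iSup_of_le (z : G.left) ?_
  obtain ⟨e, he, hdim⟩ := FibBound.dimPt_eq_add f.left k (Over.w f) (z : G.left)
  have hz : f.left (z : G.left) = f.left g₁ := z.2
  have hh : (Order.height z : WithBot ℕ∞) ≤ (e : WithBot ℕ∞) := by
    rw [Order.height_eq_krullDim_Iic, ← he]
    refine Order.krullDim_le_of_strictMono (fun y => ⟨y.1.1, y.1.2.trans hz.symm, y.2⟩) fun a b h => h
  rw [hdim, hz, Nat.cast_add, add_comm ((VarDim.dimPt k X.left (f.left g₁) : ℕ) : WithBot ℕ∞)]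
  rw [WithBot.coe_add]
  exact add_le_add hh le_rfl

end Groth.Agent.HomDim
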